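import Groth.Agent.S2800
import Groth.Agent.S2804
import Groth.Agent.L23.QFDescent
import Mathlib.AlgebraicGeometry.ZariskisMainTheorem
import Mathlib.AlgebraicGeometry.Morphisms.UniversallyInjective
import Mathlib.AlgebraicGeometry.Morphisms.Etale

/-!
Stratifications over which a surjective morphism of finite presentation acquires a section after a
finite étale covering followed by a finite radicial flat one.
-/

set_option autoImplicit false
set_option backward.isDefEq.respectTransparency.types false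
set_option linter.style.haveILetI false

open CategoryTheory CategoryTheory.Limits AlgebraicGeometry

namespace Groth.L06.FiniteStrata

universe u

/-- A universally injective morphism is separated. -/
lemma isSeparated_of_universallyInjective {X Y : Scheme.{u}} (f : X ⟶ Y) [UniversallyInjective f] :
    IsSeparated f := by
  have : Surjective (pullback.diagonal f) :=
    (UniversallyInjective.iff_diagonal (f := f)).1 inferInstance
  constructor
  exact IsClosedImmersion.of_isPreimmersion _ (by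
    rw [Set.range_eq_univ.2 (pullback.diagonal f).surjective]; exact isClosed_univ)

/-- A separated quasi-finite morphism of finite presentation is finite over the pieces of a finite
affine stratification. -/
lemma exists_finite_strata {X T : Scheme.{u}} [IsAffine T] (f : X ⟶ T)
    [LocallyOfFinitePresentation f] [QuasiCompact f] [IsSeparated f] [LocallyQuasiFinite f] :
    ∃ (ι : Type u) (_ : Finite ι) (S : ι → Scheme.{u}) (e : ∀ i, S i ⟶ T),
      (∀ i, IsAffine (S i) ∧ IsImmersion (e i) ∧ QuasiCompact (e i) ∧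
        LocallyOfFinitePresentation (e i)) ∧
      (∀ i j, i ≠ j → Disjoint (Set.range (e i).base) (Set.range (e j).base)) ∧
      (⋃ i, Set.range (e i).base) = Set.univ ∧
      ∀ i, IsFinite (pullback.snd f (e i)) := by
  obtain ⟨ι, hι, S, e, h1, h2, h3, h4⟩ := Groth.Agent.S2804.result f fun s =>
    have := (locallyQuasiFinite_iff_isFinite_fiber (f := f)).1 inferInstance s
    inferInstance
  refine ⟨ι, hι, S, e, h1, h2, h3, fun i => ?_⟩
  have : IsProper (pullback.snd f (e i)) := (h4 i).1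
  exact IsFinite.of_isProper_of_locallyQuasiFinite _

/-- The strata, for a single affine stratum of the base. -/
lemma exists_strata_of_affine {X T T' T'' : Scheme.{u}} [IsAffine T] [IsAffine T'] (f : X ⟶ T)
    (h : T' ⟶ T) [Etale h] [Surjective h]
    (g : T'' ⟶ T') [Flat g] [UniversallyInjective g] [Surjective g]
    [LocallyOfFinitePresentation g] [QuasiCompact g] (σ : T'' ⟶ X) (hσ : σ ≫ f = g ≫ h) :
    ∃ (ι : Type u) (_ : Finite ι) (S S' S'' : ι → Scheme.{u}) (e : ∀ i, S i ⟶ T)
      (hh : ∀ i, S' i ⟶ S i) (gg : ∀ i, S'' i ⟶ S' i) (s : ∀ i, S'' i ⟶ X),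
      (∀ i, IsImmersion (e i) ∧ QuasiCompact (e i) ∧ LocallyOfFinitePresentation (e i)) ∧
      (∀ i j, i ≠ j → Disjoint (Set.range (e i).base) (Set.range (e j).base)) ∧
      (⋃ i, Set.range (e i).base) = Set.univ ∧
      (∀ i, IsFinite (hh i) ∧ Surjective (hh i) ∧ Etale (hh i)) ∧
      (∀ i, IsFinite (gg i) ∧ Surjective (gg i) ∧ Flat (gg i) ∧
        LocallyOfFinitePresentation (gg i) ∧ UniversallyInjective (gg i)) ∧
      ∀ i, s i ≫ f = gg i ≫ hh i ≫ e i := by
  haveI := isSeparated_of_universallyInjective g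
  haveI : LocallyQuasiFinite g := LocallyQuasiFinite.of_injective g.injective
  obtain ⟨A, hA, S₁, a, a1, a2, a3, a4⟩ := exists_finite_strata (g ≫ h)
  choose haff haimm haqc halfp using a1
  have hB : ∀ i, ∃ (B : Type u) (_ : Finite B) (S₂ : B → Scheme.{u}) (b : ∀ j, S₂ j ⟶ S₁ i),
      (∀ j, IsAffine (S₂ j) ∧ IsImmersion (b j) ∧ QuasiCompact (b j) ∧
        LocallyOfFinitePresentation (b j)) ∧
      (∀ j j', j ≠ j' → Disjoint (Set.range (b j).base) (Set.range (b j').base)) ∧
      (⋃ j, Set.range (b j).base) = Set.univ ∧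
      ∀ j, IsFinite (pullback.snd (pullback.snd h (a i)) (b j)) := fun i => by
    haveI := haff i; haveI := halfp i
    exact exists_finite_strata (pullback.snd h (a i))
  choose B hBf S₂ b b1 b2 b3 b4 using hB
  haveI := hA
  haveI : ∀ i, Finite (B i) := hBf
  have hga : ∀ i, IsFinite (pullback.snd g (pullback.fst h (a i))) := fun i => by
    have sq := (IsPullback.of_hasPullback g (pullback.fst h (a i))).paste_vert
      (IsPullback.of_hasPullback h (a i))
    have hfin : IsFinite
        (pullback.snd g (pullback.fst h (a i)) ≫ pullback.snd h (a i)) := by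
      rw [← sq.isoPullback_hom_snd]
      haveI := a4 i
      infer_instance
    haveI : IsSeparated (pullback.snd h (a i)) := inferInstance
    exact MorphismProperty.of_postcomp (W := @IsFinite) (W' := @IsSeparated) _ _ ‹_› hfin
  refine ⟨Σ i, B i, inferInstance, fun x => S₂ x.1 x.2,
    fun x => pullback (pullback.snd h (a x.1)) (b x.1 x.2),
    fun x => pullback (pullback.snd g (pullback.fst h (a x.1)))
      (pullback.fst (pullback.snd h (a x.1)) (b x.1 x.2)),
    fun x => b x.1 x.2 ≫ a x.1, fun x => pullback.snd _ _, fun x => pullback.snd _ _,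
    fun x => pullback.fst _ _ ≫ pullback.fst g _ ≫ σ, ?_, ?_, ?_, ?_, ?_, ?_⟩
  · rintro ⟨i, j⟩
    obtain ⟨-, p2, p3, p4⟩ := b1 i j
    haveI := haimm i; haveI := haqc i; haveI := halfp i
    exact ⟨inferInstance, inferInstance, inferInstance⟩
  · rintro ⟨i, j⟩ ⟨i', j'⟩ hne
    rw [Set.disjoint_left]
    rintro z ⟨u, rfl⟩ ⟨v, hv⟩
    by_cases hi : i = i'
    · subst hi
      have hj : j ≠ j' := fun e => hne (e ▸ rfl)
      simp only [Scheme.Hom.comp_apply] at hv
      haveI := haimm i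
      exact Set.disjoint_left.1 (b2 i j j' hj) ⟨u, rfl⟩
        ⟨v, (a i).isEmbedding.injective hv⟩
    · simp only [Scheme.Hom.comp_apply] at hv
      exact Set.disjoint_left.1 (a2 i i' hi) ⟨_, rfl⟩ ⟨_, hv⟩
  · rw [Set.eq_univ_iff_forall]
    intro z
    obtain ⟨i, u, rfl⟩ := Set.mem_iUnion.1 (a3.symm ▸ Set.mem_univ z :
      z ∈ ⋃ i, Set.range (a i).base)
    obtain ⟨j, v, rfl⟩ := Set.mem_iUnion.1 ((b3 i).symm ▸ Set.mem_univ u :
      u ∈ ⋃ j, Set.range (b i j).base)
    exact Set.mem_iUnion.2 ⟨⟨i, j⟩, v, rfl⟩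
  · rintro ⟨i, j⟩
    exact ⟨b4 i j, inferInstance, inferInstance⟩
  · rintro ⟨i, j⟩
    haveI := hga i
    exact ⟨inferInstance, inferInstance, inferInstance, inferInstance,
      MorphismProperty.pullback_snd _ _ (MorphismProperty.pullback_snd _ _ ‹_›)⟩
  · rintro ⟨i, j⟩
    simp only [Category.assoc, hσ]
    rw [pullback.condition_assoc, pullback.condition, pullback.condition_assoc,
      pullback.condition_assoc]

/-- The global form. -/
theorem exists_strata {X Y : Scheme.{u}} (f : X ⟶ Y) [Surjective f]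
    [LocallyOfFinitePresentation f] [CompactSpace Y] [QuasiSeparatedSpace Y] :
    ∃ (ι : Type u) (_ : Finite ι) (T T' T'' : ι → Scheme.{u}) (e : ∀ i, T i ⟶ Y)
      (hh : ∀ i, T' i ⟶ T i) (gg : ∀ i, T'' i ⟶ T' i) (s : ∀ i, T'' i ⟶ X),
      (∀ i, IsImmersion (e i) ∧ LocallyOfFinitePresentation (e i) ∧ QuasiCompact (e i)) ∧
      Pairwise (fun i j => Disjoint (Set.range (e i).base) (Set.range (e j).base)) ∧
      (⋃ i, Set.range (e i).base) = Set.univ ∧
      (∀ i, IsFinite (hh i) ∧ Surjective (hh i) ∧ Etale (hh i)) ∧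
      (∀ i, IsFinite (gg i) ∧ Surjective (gg i) ∧ Flat (gg i) ∧
        LocallyOfFinitePresentation (gg i) ∧ UniversallyInjective (gg i)) ∧
      ∀ i, s i ≫ f = gg i ≫ hh i ≫ e i := by
  obtain ⟨ι, hι, T, T', T'', e, h, g, σ, c1, c2, c3, c4, c5, c6⟩ := Groth.Agent.S2800.result f
  have key : ∀ i, ∃ (J : Type u) (_ : Finite J) (S S' S'' : J → Scheme.{u}) (e' : ∀ j, S j ⟶ T i)
      (hh : ∀ j, S' j ⟶ S j) (gg : ∀ j, S'' j ⟶ S' j) (s : ∀ j, S'' j ⟶ X),
      (∀ j, IsImmersion (e' j) ∧ QuasiCompact (e' j) ∧ LocallyOfFinitePresentation (e' j)) ∧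
      (∀ j j', j ≠ j' → Disjoint (Set.range (e' j).base) (Set.range (e' j').base)) ∧
      (⋃ j, Set.range (e' j).base) = Set.univ ∧
      (∀ j, IsFinite (hh j) ∧ Surjective (hh j) ∧ Etale (hh j)) ∧
      (∀ j, IsFinite (gg j) ∧ Surjective (gg j) ∧ Flat (gg j) ∧
        LocallyOfFinitePresentation (gg j) ∧ UniversallyInjective (gg j)) ∧
      ∀ j, s j ≫ f = gg j ≫ hh j ≫ e' j ≫ e i := fun i => by
    obtain ⟨haff, -, -, -⟩ := c1 i
    obtain ⟨het, hsurj, hqc, -⟩ := c4 i
    obtain ⟨gfl, gui, gsu, glfp, gqc, -⟩ := c5 i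
    haveI : CompactSpace (T' i) := QuasiCompact.compactSpace_of_compactSpace (h i)
    let 𝒰 := (T' i).affineCover.finiteSubcover
    haveI : ∀ k, IsAffine (𝒰.X k) := fun k => by dsimp [𝒰]; infer_instance
    haveI : Etale (Sigma.desc 𝒰.f) :=
      IsZariskiLocalAtSource.sigmaDesc (P := @Etale) fun k => inferInstance
    haveI : UniversallyInjective (pullback.snd (g i) (Sigma.desc 𝒰.f)) :=
      MorphismProperty.pullback_snd _ _ gui
    obtain ⟨J, hJ, S, S', S'', e', hh, gg, s, d1, d2, d3, d4, d5, d6⟩ :=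
      exists_strata_of_affine
        (X := pullback f (e i)) (pullback.snd f (e i)) (Sigma.desc 𝒰.f ≫ h i)
        (pullback.snd (g i) (Sigma.desc 𝒰.f))
        (pullback.lift (pullback.fst _ _ ≫ σ i) (pullback.snd _ _ ≫ Sigma.desc 𝒰.f ≫ h i)
          (by rw [Category.assoc, c6 i, pullback.condition_assoc]; simp only [Category.assoc]))
        (pullback.lift_snd _ _ _)
    exact ⟨J, hJ, S, S', S'', e', hh, gg, fun j => s j ≫ pullback.fst _ _, d1, d2, d3, d4, d5,
      fun j => by rw [Category.assoc, pullback.condition, ← Category.assoc, d6 j]; simp⟩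
  choose J hJ S S' S'' e' hh gg s d1 d2 d3 d4 d5 d6 using key
  haveI := hι
  haveI : ∀ i, Finite (J i) := hJ
  refine ⟨Σ i, J i, inferInstance, fun x => S x.1 x.2, fun x => S' x.1 x.2, fun x => S'' x.1 x.2,
    fun x => e' x.1 x.2 ≫ e x.1, fun x => hh x.1 x.2, fun x => gg x.1 x.2, fun x => s x.1 x.2,
    ?_, ?_, ?_, fun x => d4 x.1 x.2, fun x => d5 x.1 x.2, fun x => d6 x.1 x.2⟩
  · rintro ⟨i, j⟩
    obtain ⟨-, p2, p3, p4⟩ := c1 i
    obtain ⟨q1, q2, q3⟩ := d1 i j
    exact ⟨inferInstance, inferInstance, inferInstance⟩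
  · rintro ⟨i, j⟩ ⟨i', j'⟩ hne
    rw [Set.disjoint_left]
    rintro z ⟨u, rfl⟩ ⟨v, hv⟩
    simp only [Scheme.Hom.comp_apply] at hv
    by_cases hi : i = i'
    · subst hi
      have hj : j ≠ j' := fun e => hne (e ▸ rfl)
      haveI := (c1 i).2.1
      exact Set.disjoint_left.1 (d2 i j j' hj) ⟨u, rfl⟩ ⟨v, (e i).isEmbedding.injective hv⟩
    · exact Set.disjoint_left.1 (c2 i i' hi) ⟨_, rfl⟩ ⟨_, hv⟩
  · rw [Set.eq_univ_iff_forall]
    intro z
    obtain ⟨i, u, rfl⟩ := Set.mem_iUnion.1 (c3.symm ▸ Set.mem_univ z :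
      z ∈ ⋃ i, Set.range (e i).base)
    obtain ⟨j, v, rfl⟩ := Set.mem_iUnion.1 ((d3 i).symm ▸ Set.mem_univ u :
      u ∈ ⋃ j, Set.range (e' i j).base)
    exact Set.mem_iUnion.2 ⟨⟨i, j⟩, v, rfl⟩

end Groth.L06.FiniteStrata
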